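import Cfsg.Agent.H536.LD.ColOne

/-!
# S4910, the row Fi23, `killB`: products of two letters in the class 3A (helper536 for helper66)
-/

set_option autoImplicit false
set_option maxRecDepth 100000

namespace Cfsg.Agent.H536.LD.ColOne

open Cfsg Subgroup
open Cfsg.Spor (Fi23)
open Cfsg.Agent.Lib.PermNet Cfsg.Agent.Fischer.Fi23Hom Cfsg.Agent.LThreeFi23
open Cfsg.Agent.H838.Fi23

theorem isConj_uu_of {x y : Lt} (h : Nat.beq (ptw [x] (pt y)) (pt y) = false) : IsConj uu (el x * el y) := by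
  have h1 := isConj_pair (pt_lt x) (pt_lt y) (ncom_pt rfl h)
  rwa [T_pt, T_pt] at h1

theorem isConj_uu_ab : IsConj uu (el .a * el .b) := isConj_uu_of (by decide +kernel)

theorem isConj_uu_bc : IsConj uu (el .b * el .c) := isConj_uu_of (by decide +kernel)

/-- the product of two noncommuting transpositions is in 3A -/
theorem isConj_uu_mul {d e : Fi23} (hd : IsConj Fischer.Fi23Z.z0 d) (he : IsConj Fischer.Fi23Z.z0 e)
    (h : d * e ≠ e * d) : IsConj uu (d * e) := by
  obtain ⟨g, rfl⟩ := isConj_iff.1 hd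
  obtain ⟨k, rfl⟩ := isConj_iff.1 he
  rw [← T_eq (g := g) rfl, ← T_eq (g := k) rfl] at h ⊢
  have hl : ∀ g : Fi23, rho g 0 < 31671 := (KFacts.FiTTh.Cent.act).2.2.1
  refine isConj_pair (hl _) (hl _) fun hc => h ?_
  exact (com_iff (hl _)).1 hc

end Cfsg.Agent.H536.LD.ColOne
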