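import Cfsg.Agent.H343.LD.EndB
import Cfsg.Agent.H838.FiveMain
import Cfsg.Agent.LThreeFi23.CentUuComp

/-!
# S4910, the row Fi23, `killB`: the column of 5, the central characters of 2A and 3A, the end (helper536 for helper66)

* `col_one` : the multiplicity of a character of 5-defect zero of `S₇` in `χ(y5 ·)`;
* `om2`, `om3` : the central character at 2A and 3A for the family of degree `5987520`;
* `endC` : the final arithmetic.
-/

set_option autoImplicit false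
set_option maxRecDepth 100000

namespace Cfsg.Agent.H536.LD.ColOne

open Cfsg Subgroup Cfsg.Agent.Characters Cfsg.Agent.Characters.Core Cfsg.Agent.SmallSimple.ThetaSetup
open Cfsg.Agent.H174.Ore.Fi23Rk Cfsg.Agent.H343.LD Cfsg.Agent.H343.LD.EndB
open Cfsg.Spor (Fi23)
open Cfsg.Agent.Lib.PermNet Cfsg.Agent.Fischer.Fi23Hom Cfsg.Agent.LThreeFi23
open Cfsg.Agent.H838.Fi23
open Cfsg.Agent.Fischer.Fi23Z (z0)

/-- the multiplicity of a character of 5-defect zero (any `Loc 5 x K`) -/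
theorem col_one' {x : Fi23} {K : Subgroup Fi23} [Fintype K] (hloc : Loc 5 x K) (θ : IrrCharacter K)
    (h0 : (charDegree (θ : K → ℂ)).factorization 5 = (Nat.card K).factorization 5)
    {χ : IrrCharacter Fi23} (h17 : ¬ (17 : ℤ) ∣ charDegree (χ : Fi23 → ℂ)) :
    ∃ w : ℤ, part (θ : K → ℂ) (χ : Fi23 → ℂ) x = w ∧ (w = 0 ∨ w = 1 ∨ w = -1) ∧
      (w ≠ 0 → ∀ g : Fi23, ¬ 5 ∣ orderOf g → ∃ (m : ℕ) (z : ℂ), ¬ 5 ∣ m ∧ IsIntegral ℤ z ∧
        (m : ℂ) * (om (χ : Fi23 → ℂ) g - (∑ s ∈ cls K g, (θ : K → ℂ) s) / (θ : K → ℂ) 1) = 5 * z) := by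
  classical
  have := H713.Spor.Fi23.finite_fi23
  obtain ⟨w, m, hw, -, -⟩ := hloc.exists_int (by norm_num) χ θ
  have h1 : |w| ≤ 1 := abs_le_one hloc θ h0 (n := charDegree (χ : Fi23 → ℂ))
    (by rw [Blocks.Basic.irr_one_eq_charDegree χ.2]; push_cast; rfl) h17 hw
  rw [abs_le] at h1
  refine ⟨w, hw, by omega, fun hw0 g hg => ?_⟩
  have h2 : ¬ ((5 : ℕ) : ℤ) ∣ w := by
    push_cast
    omega
  obtain ⟨m, z, hm, hz, he⟩ := hloc.omega (by norm_num) χ θ h0 hg hw h2
  exact ⟨m, z, hm, hz, by rw [he]; norm_num⟩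

theorem col_one [Fintype (SL L7)] (hloc : Loc 5 (elw y5) (SL L7)) (θ : IrrCharacter (SL L7))
    (h0 : (charDegree (θ : SL L7 → ℂ)).factorization 5 = (Nat.card (SL L7)).factorization 5)
    {χ : IrrCharacter Fi23} (h17 : ¬ (17 : ℤ) ∣ charDegree (χ : Fi23 → ℂ)) :
    ∃ w : ℤ, part (θ : SL L7 → ℂ) (χ : Fi23 → ℂ) (elw y5) = w ∧ (w = 0 ∨ w = 1 ∨ w = -1) ∧
      (w ≠ 0 → ∀ g : Fi23, ¬ 5 ∣ orderOf g → ∃ (m : ℕ) (z : ℂ), ¬ 5 ∣ m ∧ IsIntegral ℤ z ∧
        (m : ℂ) * (om (χ : Fi23 → ℂ) g - (∑ s ∈ cls (SL L7) g, (θ : SL L7 → ℂ) s) / (θ : SL L7 → ℂ) 1) = 5 * z) :=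
  col_one' hloc θ h0 h17

theorem index_z0 : (centralizer ({z0} : Set Fi23)).index = 31671 := by
  have := H713.Spor.Fi23.finite_fi23
  have h1 := Subgroup.card_mul_index (centralizer ({z0} : Set Fi23))
  rw [H713.Spor.Fi23.card_z0, card_G] at h1
  omega

theorem index_uu {g : Fi23} (h : IsConj uu g) : (centralizer ({g} : Set Fi23)).index = 297285120 := by
  have := H713.Spor.Fi23.finite_fi23
  have h1 := Subgroup.card_mul_index (centralizer ({g} : Set Fi23))
  rw [card_C_of_conj h, card_G] at h1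
  omega

theorem om_conj {χ : IrrCharacter Fi23} {x y : Fi23} (h : IsConj x y) : om (χ : Fi23 → ℂ) x = om (χ : Fi23 → ℂ) y := by
  have := H713.Spor.Fi23.finite_fi23
  obtain ⟨c, rfl⟩ := isConj_iff.1 h
  unfold om
  rw [isIrr_isClassFunction χ.2]
  have h1 : Nat.card (centralizer ({c * x * c⁻¹} : Set Fi23)) = Nat.card (centralizer ({x} : Set Fi23)) :=
    (Nat.card_congr (centConj c x).toEquiv).symm
  have h2 := Subgroup.card_mul_index (centralizer ({c * x * c⁻¹} : Set Fi23))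
  have h3 := Subgroup.card_mul_index (centralizer ({x} : Set Fi23))
  rw [h1, ← h3] at h2
  rw [Nat.eq_of_mul_eq_mul_left Nat.card_pos h2]

/-- the central character at 2A -/
theorem om2 {χ : IrrCharacter Fi23} {b c : ℤ} (h : Vals χ 5987520 (-221760) b c) {d : Fi23} (hd : IsConj z0 d) :
    om (χ : Fi23 → ℂ) d = -1173 := by
  rw [← om_conj hd]
  unfold om
  rw [index_z0, h.val_d z0 (IsConj.refl _), h.one]
  norm_num

theorem isConj_j : IsConj z0 (el .j) := by
  have h := Fischer.Fi23Class.isConj_gen (x := .j) hle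
  exact h

theorem zj_ne : el .z * el .j ≠ el .j * el .z := by
  intro h
  have h1 : (uu : Fi23)⁻¹ = uu := by rw [uu_inv]; exact h.symm
  have h2 : orderOf (uu : Fi23) ∣ 2 := orderOf_dvd_of_pow_eq_one (by
    rw [pow_two]
    nth_rewrite 1 [← h1]
    exact inv_mul_cancel _)
  rw [order_uu] at h2
  norm_num at h2

theorem val_uu {χ : IrrCharacter Fi23} {n a b c : ℤ} (h : Vals χ n a b c) {g : Fi23} (hg : IsConj uu g) :
    (χ : Fi23 → ℂ) g = c := by
  obtain ⟨k, rfl⟩ := isConj_iff.1 hg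
  rw [isIrr_isClassFunction χ.2]
  exact h.val_n (el .z) (el .j) (IsConj.refl _) isConj_j zj_ne

/-- the central character at 3A -/
theorem om3 {χ : IrrCharacter Fi23} {b c : ℤ} (h : Vals χ 5987520 (-221760) b c) {g : Fi23} (hg : IsConj uu g) :
    63 * om (χ : Fi23 → ℂ) g = 3128 * c := by
  unfold om
  rw [index_uu hg, val_uu h hg, h.one]
  push_cast
  ring

/-- **The degree 5987520 dies at 5** (with the congruence at 3A). -/
theorem endC {x : Fi23} {K : Subgroup Fi23} [Fintype K] (h : Loc 5 x K) (θ15 θ35 : IrrCharacter K)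
    (d15 : charDegree (θ15 : K → ℂ) = 15) (d35 : charDegree (θ35 : K → ℂ) = 35)
    (hK : (Nat.card K).factorization 5 = 1) {χ : IrrCharacter Fi23} {b c i : ℤ}
    (hV : Vals χ 5987520 (-221760) b c) (hc : c = -24759 + 2457 * i) (hb : b = 271040 - 19712 * i) {A B : ℤ}
    (hA : part (θ15 : K → ℂ) (χ : Fi23 → ℂ) x = A) (hB : part (θ35 : K → ℂ) (χ : Fi23 → ℂ) x = B)
    (hA5 : (5 : ℤ) ∣ A - (b - c)) (hB5 : (5 : ℤ) ∣ B - (c - 2 * b)) {g : Fi23} (hg : IsConj uu g)
    (hcls : ∑ s ∈ cls K g, (θ15 : K → ℂ) s = 210) : False := by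
  classical
  have := H713.Spor.Fi23.finite_fi23
  have f15 : (charDegree (θ15 : K → ℂ)).factorization 5 = (Nat.card K).factorization 5 := by
    rw [hK, d15, show 15 = 5 ^ 1 * 3 by norm_num, Nat.factorization_mul (by norm_num) (by norm_num)]
    simp [Nat.Prime.factorization (show Nat.Prime 5 by norm_num),
      Nat.Prime.factorization (show Nat.Prime 3 by norm_num)]
  have f35 : (charDegree (θ35 : K → ℂ)).factorization 5 = (Nat.card K).factorization 5 := by
    rw [hK, d35, show 35 = 5 ^ 1 * 7 by norm_num, Nat.factorization_mul (by norm_num) (by norm_num)]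
    simp [Nat.Prime.factorization (show Nat.Prime 5 by norm_num),
      Nat.Prime.factorization (show Nat.Prime 7 by norm_num)]
  have a1 := abs_le_one h θ15 f15 (n := 5987520) (by rw [hV.one]) (by norm_num) hA
  have b1 := abs_le_one h θ35 f35 (n := 5987520) (by rw [hV.one]) (by norm_num) hB
  rw [abs_le] at a1 b1
  have e1 : (A - (i - 1)) % 5 = 0 := by omega
  have e2 : (B - (i + 1)) % 5 = 0 := by omega
  clear hA5 hB5
  have hi : (5 : ℤ) ∣ i := by
    have e3 : A = -1 ∨ A = 0 ∨ A = 1 := by omega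
    have e4 : B = -1 ∨ B = 0 ∨ B = 1 := by omega
    rcases e3 with rfl | rfl | rfl <;> rcases e4 with rfl | rfl | rfl <;> omega
  have hA0 : ¬ (5 : ℤ) ∣ A := by omega
  have hg5 : ¬ 5 ∣ orderOf g := by
    obtain ⟨k, rfl⟩ := isConj_iff.1 hg
    rw [show k * uu * k⁻¹ = MulAut.conj k uu from rfl, MulEquiv.orderOf_eq, order_uu]
    norm_num
  have hw : ∃ (m : ℕ) (z : ℂ), ¬ 5 ∣ m ∧ IsIntegral ℤ z ∧
        (m : ℂ) * (om (χ : Fi23 → ℂ) g - (∑ s ∈ cls K g, (θ15 : K → ℂ) s) / (θ15 : K → ℂ) 1) = (5 : ℕ) * z :=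
    h.omega (by norm_num) χ θ15 f15 hg5 hA (by exact_mod_cast hA0)
  obtain ⟨m, z, hm, hz, he⟩ := hw
  have h15 : (θ15 : K → ℂ) 1 = 15 := by
    rw [Blocks.Basic.irr_one_eq_charDegree θ15.2, d15]
    norm_num
  have hom : om (χ : Fi23 → ℂ) g = ((3128 * (39 * i - 393) : ℤ) : ℂ) := by
    have h3 := om3 hV hg
    rw [hc] at h3
    push_cast at h3 ⊢
    linear_combination h3 / 63
  rw [hom, hcls, h15] at he
  have h2 := H856.F23.dvd_of_integral (q := 5) (by norm_num) (a := m * (3128 * (39 * i - 393) - 14)) (b := 0)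
    ⟨z, hz, by
      rw [Int.cast_zero, zero_add, ← he]
      push_cast
      ring⟩
  rw [sub_zero] at h2
  have h5 : Prime (5 : ℤ) := Int.prime_iff_natAbs_prime.2 (by norm_num)
  rcases h5.dvd_or_dvd h2 with h3 | h3
  · exact hm (by exact_mod_cast h3)
  · omega

end Cfsg.Agent.H536.LD.ColOne
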